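import Groth.Prelude.Def_Frob
import Mathlib

/-!
# Relatively perfect morphisms: composition, base change, coperfection
-/

universe u

open CategoryTheory CategoryTheory.Limits AlgebraicGeometry

namespace RelPerfCompLib

variable (p : ℕ) [Fact p.Prime]

/-- A morphism is relatively perfect iff its Frobenius square is cartesian. -/
theorem isIso_relFrob_iff {X S : Scheme.{u}} [FrobSch.IsCharP S p] [FrobSch.IsCharP X p] (f : X ⟶ S) :
    IsIso (FrobSch.relFrob f p) ↔ IsPullback (FrobSch.frob X p) f f (FrobSch.frob S p) := by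
  constructor
  · intro h
    exact IsPullback.of_iso (IsPullback.of_hasPullback f (FrobSch.frob S p))
      (asIso (FrobSch.relFrob f p)).symm (Iso.refl _) (Iso.refl _) (Iso.refl _)
      (by simp [← cancel_epi (FrobSch.relFrob f p)])
      (by simp [← cancel_epi (FrobSch.relFrob f p)]) (by simp) (by simp)
  · intro h
    have : FrobSch.relFrob f p = h.isoPullback.hom := by
      apply pullback.hom_ext <;> simp
    rw [this]
    infer_instance

theorem isIso_relFrob_comp {X T S : Scheme.{u}} [FrobSch.IsCharP S p] [FrobSch.IsCharP T p]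
    (f : T ⟶ S) (π : X ⟶ T) (hf : IsIso (FrobSch.relFrob f p)) (hπ : IsIso (FrobSch.relFrob π p)) :
    IsIso (FrobSch.relFrob (π ≫ f) p) := by
  haveI : FrobSch.IsCharP X p := FrobSch.IsCharP.of_hom π p
  rw [isIso_relFrob_iff] at hf hπ ⊢
  exact hπ.paste_vert hf

theorem isIso_relFrob_of_isPullback {Y S T YT : Scheme.{u}} [FrobSch.IsCharP S p] [FrobSch.IsCharP T p]
    {r : Y ⟶ S} {f : T ⟶ S} {a : YT ⟶ Y} {q : YT ⟶ T} (h : IsPullback a q r f)
    (hr : IsIso (FrobSch.relFrob r p)) : IsIso (FrobSch.relFrob q p) := by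
  haveI : FrobSch.IsCharP YT p := FrobSch.IsCharP.of_hom q p
  haveI : FrobSch.IsCharP Y p := FrobSch.IsCharP.of_hom r p
  rw [isIso_relFrob_iff] at hr ⊢
  refine IsPullback.of_right ?_ (FrobSch.frob_comp p q) h
  have := h.paste_horiz hr
  rw [FrobSch.frob_comp p a, FrobSch.frob_comp p f]
  exact this

theorem coperfection_comp {X X' T S : Scheme.{u}}
    [FrobSch.IsCharP S p] [FrobSch.IsCharP T p] (f : T ⟶ S) (hf : IsIso (FrobSch.relFrob f p))
    (g : X ⟶ T) (π : X' ⟶ T) (hπ : IsIso (FrobSch.relFrob π p)) (c : X ⟶ X') (hc : c ≫ π = g)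
    (huniv : ∀ (Y : Scheme.{u}) (q : Y ⟶ T), IsIso (FrobSch.relFrob q p) →
      ∀ k : X ⟶ Y, k ≫ q = g → ∃! h : X' ⟶ Y, h ≫ q = π ∧ c ≫ h = k) :
    IsIso (FrobSch.relFrob (π ≫ f) p) ∧
      ∀ (Y : Scheme.{u}) (r : Y ⟶ S), IsIso (FrobSch.relFrob r p) →
        ∀ k : X ⟶ Y, k ≫ r = g ≫ f → ∃! h : X' ⟶ Y, h ≫ r = π ≫ f ∧ c ≫ h = k := by
  refine ⟨isIso_relFrob_comp p f π hf hπ, fun Y r hr k hk => ?_⟩
  have hp := IsPullback.of_hasPullback r f
  obtain ⟨h, ⟨h1, h2⟩, h3⟩ := huniv _ (pullback.snd r f) (isIso_relFrob_of_isPullback p hp hr)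
    (pullback.lift k g hk) (pullback.lift_snd _ _ _)
  refine ⟨h ≫ pullback.fst r f, ⟨?_, ?_⟩, ?_⟩
  · rw [Category.assoc, pullback.condition, reassoc_of% h1]
  · rw [reassoc_of% h2, pullback.lift_fst]
  · rintro h' ⟨h1', h2'⟩
    rw [← h3 (pullback.lift h' π h1') ⟨pullback.lift_snd _ _ _, ?_⟩, pullback.lift_fst]
    apply pullback.hom_ext
    · rw [Category.assoc, pullback.lift_fst, h2', pullback.lift_fst]
    · rw [Category.assoc, pullback.lift_snd, hc, pullback.lift_snd]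

end RelPerfCompLib
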